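import Groth.Agent.Torelli.Step
import Groth.Agent.AlbCurve.ThetaLocus
import Groth.Agent.AlbCurve.ThetaLam

/-!
# Torelli's theorem
-/

set_option autoImplicit false
set_option maxHeartbeats 3200000
set_option linter.style.haveILetI false
set_option linter.unusedSectionVars false
set_option backward.isDefEq.respectTransparency false
set_option backward.isDefEq.respectTransparency.types false

universe u

open CategoryTheory CategoryTheory.Limits AlgebraicGeometry TopologicalSpace Opposite MonoidalCategory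
  CartesianMonoidalCategory MonObj

noncomputable section

namespace Groth.Agent.Torelli

open Groth.Agent
open Groth.Agent.JacVarLib (Pc hz dg O Pt pt KP img sm cls Os om)

variable (k : Type u) [Field k] [IsAlgClosed k]
  {C : Scheme.{u}} [C.Over (Spec (CommRingCat.of k))] [IsProper (C ↘ Spec (CommRingCat.of k))] [IsIntegral C]
  [Smooth (C ↘ Spec (CommRingCat.of k))] [GeometricallyConnected (C ↘ Spec (CommRingCat.of k))]
  (hdim : topologicalKrullDim C = 1)
  {σ : Spec (CommRingCat.of k) ⟶ C} (hσ : σ ≫ C ↘ Spec (CommRingCat.of k) = 𝟙 _)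
  {J : Over (Spec (CommRingCat.of k))} [GrpObj J] [IsCommMonObj J]
  {ψ : (ModFun.PicDeg (C ↘ Spec (CommRingCat.of k)) 0).Hom ⊤ J}
  (hJ : Jac.IsJacobian (C ↘ Spec (CommRingCat.of k)) ⊤ J ψ)
  {j : Over.mk (C ↘ Spec (CommRingCat.of k)) ⟶ J}
  (hj : Jac.IsAbelJacobiAt (C ↘ Spec (CommRingCat.of k)) σ ψ j)

include hdim hσ hJ hj in
/-- The theta locus is a translate of `W^(g-1)`. -/
theorem exists_theta_translate {n : ℕ} (hn : Curv2.genus k C = n + 1) {N : C.Modules} (hN : PicF.IsInvertible N)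
    (hNdeg : Curv2.deg k C N 1 = n) :
    ∃ e : KP k J, ∀ c : KP k J, img k c ∈ Jac.thetaLocus (C ↘ Spec (CommRingCat.of k)) 0 ψ N ↔
      0 < hz k (cls k hdim hJ (c * e) * Os k hdim σ hσ ^ n) := by
  haveI := PicRep.smoothOfRelativeDimension_one k C hdim
  obtain ⟨⟨r, hψ, hmul⟩, -⟩ := PicRep.exists_rep_of_isJacobian hσ hdim hJ
  obtain ⟨a, ha⟩ := AlbCurve.exists_thetaLocus_eq k hdim hJ hj r hψ hmul hn hN hNdeg
  obtain ⟨e, he⟩ := JacVarLib.exists_cls k hdim hJ
    (v := om k hdim / (cls k hdim hJ a * Os k hdim σ hσ ^ (n + n))) (by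
    rw [JacVarLib.dg_div k hdim, JacVarLib.dg_mul k hdim, JacVarLib.dg_cls, JacVarLib.dg_pow k hdim, JacVarLib.dg_O,
      JacVarLib.dg_om, hn]
    push_cast; ring)
  refine ⟨e, fun c => ?_⟩
  rw [ha, AlbCurve.mem_thetaSet k hdim hσ hJ hj, JacVarLib.cls_mul, he]
  have h := JacVarLib.rr k hdim (cls k hdim hJ a / cls k hdim hJ c * Os k hdim σ hσ ^ n)
  rw [JacVarLib.dg_mul k hdim, JacVarLib.dg_div k hdim, JacVarLib.dg_cls, JacVarLib.dg_cls, JacVarLib.dg_pow k hdim,
    JacVarLib.dg_O, hn] at h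
  rw [show cls k hdim hJ c * (om k hdim / (cls k hdim hJ a * Os k hdim σ hσ ^ (n + n))) * Os k hdim σ hσ ^ n =
    om k hdim / (cls k hdim hJ a / cls k hdim hJ c * Os k hdim σ hσ ^ n) by rw [pow_add]; cgroup]
  push_cast at h
  omega

variable {C' : Scheme.{u}} [C'.Over (Spec (CommRingCat.of k))] [IsProper (C' ↘ Spec (CommRingCat.of k))] [IsIntegral C']
  [Smooth (C' ↘ Spec (CommRingCat.of k))] [GeometricallyConnected (C' ↘ Spec (CommRingCat.of k))]
  (hdim' : topologicalKrullDim C' = 1)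
  {σ' : Spec (CommRingCat.of k) ⟶ C'} (hσ' : σ' ≫ C' ↘ Spec (CommRingCat.of k) = 𝟙 _)
  {J' : Over (Spec (CommRingCat.of k))} [GrpObj J'] [IsCommMonObj J']
  {ψ' : (ModFun.PicDeg (C' ↘ Spec (CommRingCat.of k)) 0).Hom ⊤ J'}
  (hJ' : Jac.IsJacobian (C' ↘ Spec (CommRingCat.of k)) ⊤ J' ψ')
  {j' : Over.mk (C' ↘ Spec (CommRingCat.of k)) ⟶ J'}
  (hj' : Jac.IsAbelJacobiAt (C' ↘ Spec (CommRingCat.of k)) σ' ψ' j')
  {m : J ⟶ J'} [IsMonHom m] {mi : J' ⟶ J} [IsMonHom mi] (hmmi : m ≫ mi = 𝟙 J) (hmim : mi ≫ m = 𝟙 J')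

include hdim hσ hdim' hσ' hJ hj hJ' hj' hmmi hmim in
/-- An isomorphism respecting the theta divisors carries the curve to a translate of the curve or of its reflection. -/
theorem exists_translate {n : ℕ} (hn1 : 1 ≤ n) (hn : Curv2.genus k C = n + 1) (hn' : Curv2.genus k C' = n + 1)
    (t : KP k J')
    (hW : ∀ c : KP k J, 0 < hz k (cls k hdim hJ c * Os k hdim σ hσ ^ n) ↔
      0 < hz k (cls k hdim' hJ' (c ≫ m * t) * Os k hdim' σ' hσ' ^ n)) :
    ∃ a : KP k J', (∀ z : KP k (Over.mk (C ↘ Spec (CommRingCat.of k))),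
      0 < hz k (cls k hdim' hJ' ((z ≫ j ≫ m) * a⁻¹) * Os k hdim' σ' hσ' ^ 1)) ∨
      (∀ z : KP k (Over.mk (C ↘ Spec (CommRingCat.of k))),
      0 < hz k (cls k hdim' hJ' ((z ≫ j ≫ m)⁻¹ * a⁻¹) * Os k hdim' σ' hσ' ^ 1)) := by
  classical
  let P : ℕ → Prop := fun r => ∃ a : KP k J', (∀ z : KP k (Over.mk (C ↘ Spec (CommRingCat.of k))),
      0 < hz k (cls k hdim' hJ' ((z ≫ j ≫ m) * a⁻¹) * Os k hdim' σ' hσ' ^ (r + 1))) ∨
      (∀ z : KP k (Over.mk (C ↘ Spec (CommRingCat.of k))),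
      0 < hz k (cls k hdim' hJ' ((z ≫ j ≫ m)⁻¹ * a⁻¹) * Os k hdim' σ' hσ' ^ (r + 1)))
  have htop : P (n - 1) := by
    refine ⟨t⁻¹, Or.inl fun z => ?_⟩
    rw [show n - 1 + 1 = n by omega, inv_inv, ← Category.assoc, ← hW, JacVarLib.cls_point k hdim σ hσ hJ hj]
    obtain ⟨n', rfl⟩ : ∃ n', n = n' + 1 := ⟨n - 1, by omega⟩
    rw [pow_succ', ← _root_.mul_assoc, div_mul_cancel]
    refine JacVarLib.hz_mul_pos k hdim (JacVarLib.hz_pos_of_eff k hdim (JacVarLib.eff_O k hdim _)) ?_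
    refine JacVarLib.hz_pos_of_eff k hdim (n := n') ⟨fun _ => pt k (Over.homMk σ hσ), ?_⟩
    rw [Finset.prod_const, Finset.card_univ, Fintype.card_fin]
  have hex : ∃ r, P r := ⟨_, htop⟩
  have hr0 : Nat.find hex = 0 := by
    by_contra hne
    set r := Nat.find hex with hr
    obtain ⟨a, ha⟩ := Nat.find_spec hex
    rw [← hr] at ha
    have hrle : r + 1 ≤ n := by
      have := Nat.find_le (h := hex) htop
      omega
    have hmin : ¬ P (r - 1) := Nat.find_min hex (by omega)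
    simp only [P, show r - 1 + 1 = r by omega, not_exists, not_or] at hmin
    rcases ha with ha | ha
    · exact step k hdim hdim' hσ hσ' hJ hj hJ' hj' hmmi hmim hn hn' t hW (by omega) hrle a ha
        (fun a' => (hmin a').1) (fun a' => (hmin a').2)
    · have hz1 : ∀ z : KP k (Over.mk (C ↘ Spec (CommRingCat.of k))), z ≫ j ≫ m⁻¹ = (z ≫ j ≫ m)⁻¹ := fun z => by
        rw [GrpObj.comp_inv, GrpObj.comp_inv]
      have h1 : m⁻¹ ≫ mi⁻¹ = 𝟙 J := by
        rw [GrpObj.comp_inv, GrpObj.inv_comp, hmmi, inv_inv]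
      have h2 : mi⁻¹ ≫ m⁻¹ = 𝟙 J' := by
        rw [GrpObj.comp_inv, GrpObj.inv_comp, hmim, inv_inv]
      obtain ⟨t2, ht2⟩ := JacVarLib.exists_cls k hdim' hJ'
        (v := om k hdim' / (cls k hdim' hJ' t * Os k hdim' σ' hσ' ^ (n + n))) (by
        rw [JacVarLib.dg_div k hdim', JacVarLib.dg_mul k hdim', JacVarLib.dg_cls, JacVarLib.dg_pow k hdim',
          JacVarLib.dg_O, JacVarLib.dg_om, hn']
        push_cast; ring)
      have hW2 : ∀ c : KP k J, 0 < hz k (cls k hdim hJ c * Os k hdim σ hσ ^ n) ↔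
          0 < hz k (cls k hdim' hJ' (c ≫ m⁻¹ * t2) * Os k hdim' σ' hσ' ^ n) := fun c => by
        rw [hW, GrpObj.comp_inv]
        have h := JacVarLib.rr k hdim' (cls k hdim' hJ' (c ≫ m * t) * Os k hdim' σ' hσ' ^ n)
        rw [JacVarLib.dg_mul k hdim', JacVarLib.dg_cls, JacVarLib.dg_pow k hdim', JacVarLib.dg_O, hn'] at h
        rw [show cls k hdim' hJ' ((c ≫ m)⁻¹ * t2) * Os k hdim' σ' hσ' ^ n =
            om k hdim' / (cls k hdim' hJ' (c ≫ m * t) * Os k hdim' σ' hσ' ^ n) by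
          rw [JacVarLib.cls_mul, JacVarLib.cls_mul, JacVarLib.cls_inv, ht2, pow_add]; cgroup]
        push_cast at h
        omega
      refine step k hdim hdim' hσ hσ' hJ hj hJ' hj' h1 h2 hn hn' t2 hW2 (by omega) hrle a
        (fun z => by rw [hz1]; exact ha z) (fun a' => ?_) (fun a' => ?_)
      · intro h
        exact (hmin a').2 fun z => by rw [← hz1]; exact h z
      · intro h
        exact (hmin a').1 fun z => by
          have := h z
          rwa [hz1, inv_inv] at this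
  obtain ⟨a, ha⟩ := Nat.find_spec hex
  rw [hr0] at ha
  exact ⟨a, ha⟩

include hdim hσ hdim' hσ' hJ hj hJ' hj' in
/-- The curve mapped into a translate of the curve is isomorphic to it. -/
theorem exists_iso_curve {n : ℕ} (hn : Curv2.genus k C = n + 1) (M : J ⟶ J') [IsIso M] (a : KP k J')
    (h : ∀ z : KP k (Over.mk (C ↘ Spec (CommRingCat.of k))),
      0 < hz k (cls k hdim' hJ' ((z ≫ j ≫ M) * a⁻¹) * Os k hdim' σ' hσ' ^ 1))
    (hn' : Curv2.genus k C' = n + 1) :
    ∃ (α : C ≅ C') (hα : α.hom ≫ C' ↘ Spec (CommRingCat.of k) = C ↘ Spec (CommRingCat.of k)),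
      Over.homMk α.hom hα ≫ j' = (j ≫ M) * (toUnit (Over.mk (C ↘ Spec (CommRingCat.of k))) ≫ a⁻¹) := by
  haveI := PicRep.smoothOfRelativeDimension_one k C hdim
  haveI := PicRep.smoothOfRelativeDimension_one k C' hdim'
  obtain ⟨⟨r, hψ, hmul⟩, hJp, -⟩ := PicRep.exists_rep_of_isJacobian hσ hdim hJ
  obtain ⟨⟨r', hψ', hmul'⟩, hJp', -⟩ := PicRep.exists_rep_of_isJacobian hσ' hdim' hJ'
  haveI := hJp; haveI := hJp'
  haveI : IsClosedImmersion j.left := AlbCurve.isClosedImmersion_abel r hmul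
    (fun T x => AlbCurve.val0_abel r hψ hj x) hdim (by omega)
  haveI : IsClosedImmersion j'.left := AlbCurve.isClosedImmersion_abel r' hmul'
    (fun T x => AlbCurve.val0_abel r' hψ' hj' x) hdim' (by omega)
  let p : Over.mk (C ↘ Spec (CommRingCat.of k)) ⟶ J' := j ≫ M ≫ Jac.transl J' a⁻¹
  let pl : C ⟶ J'.left := p.left
  let jl : C' ⟶ J'.left := j'.left
  haveI : IsIso M.left := inferInstanceAs (IsIso ((Over.forget _).map M))
  haveI : IsClosedImmersion pl := by
    rw [show pl = j.left ≫ M.left ≫ (Jac.transl J' a⁻¹).left from rfl]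
    infer_instance
  have hp : ∀ z : KP k (Over.mk (C ↘ Spec (CommRingCat.of k))), ∃ Q : KP k (Over.mk (C' ↘ Spec (CommRingCat.of k))),
      z ≫ p = Q ≫ j' := fun z => by
    obtain ⟨x, hx⟩ := JacVarLib.eff_of_hz_pos k hdim' (n := 1) (by
      rw [JacVarLib.dg_mul k hdim', JacVarLib.dg_cls, JacVarLib.dg_pow k hdim', JacVarLib.dg_O]; simp) (h z)
    rw [pow_one, Fin.prod_univ_one] at hx
    obtain ⟨Q, hQ⟩ := JacVarLib.exists_pt k (x 0)
    refine ⟨Q, JacVarLib.cls_injective k hdim' hJ' ?_⟩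
    rw [JacVarLib.cls_point k hdim' σ' hσ' hJ' hj', hQ, ← hx, mul_div_cancel_right]
    refine congrArg (cls k hdim' hJ') ?_
    simp only [p, ← Category.assoc]
    rw [JacVarLib.kp_comp_transl, toUnit_unit, Category.id_comp]
  have hsub : Set.range pl ⊆ Set.range jl := by
    haveI : JacobsonSpace C := LocallyOfFiniteType.jacobsonSpace (C ↘ Spec (CommRingCat.of k))
    have hc : IsClosed (pl ⁻¹' Set.range jl) := jl.isClosedEmbedding.isClosed_range.preimage pl.continuous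
    rintro _ ⟨x, rfl⟩
    refine (?_ : Set.univ ⊆ pl ⁻¹' Set.range jl) trivial
    refine (closure_inter_closedPoints isClosed_univ).symm.trans_subset (closure_minimal ?_ hc)
    rintro y ⟨-, hy⟩
    obtain ⟨z, hz'⟩ := JacVarLib.exists_pt k (⟨y, hy⟩ : Pt C)
    obtain ⟨Q, hQ⟩ := hp z
    refine ⟨img k Q, ?_⟩
    show img k (Q ≫ j') = _
    rw [← hQ, show y = img k z from (congrArg Subtype.val hz').symm]
    rfl
  have hker : jl.ker ≤ pl.ker := by
    refine le_trans (Scheme.IdealSheafData.le_support_iff_le_vanishingIdeal.1 ?_)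
      (Triage.SchDense.vanishingIdeal_le_ker pl)
    show closure (Set.range pl) ⊆ (jl.ker.support : Set J'.left)
    rw [Scheme.Hom.support_ker]
    exact closure_mono hsub
  let α0 : C ⟶ C' := IsClosedImmersion.lift jl pl hker
  have hα0 : α0 ≫ jl = pl := IsClosedImmersion.lift_fac jl pl hker
  haveI : IsClosedImmersion α0 := by
    haveI : IsClosedImmersion (α0 ≫ jl) := by rw [hα0]; infer_instance
    exact IsClosedImmersion.of_comp α0 jl
  haveI := AlbCurve.isIso_of_closedImmersion_dim α0 (g := 1) (by rw [hdim]; rfl) (by rw [hdim']; rfl)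
  have hα : α0 ≫ C' ↘ Spec (CommRingCat.of k) = C ↘ Spec (CommRingCat.of k) := by
    rw [show C' ↘ Spec (CommRingCat.of k) = jl ≫ J'.hom from (Over.w j').symm, ← Category.assoc, hα0]
    exact Over.w p
  refine ⟨asIso α0, hα, ?_⟩
  refine (Over.OverMorphism.ext hα0 : Over.homMk α0 hα ≫ j' = p).trans ?_
  show j ≫ M ≫ Jac.transl J' a⁻¹ = _
  rw [← Category.assoc, JacVarLib.kp_comp_transl]

end Groth.Agent.Torelli
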