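import Groth.Agent.Torelli.Tools
import Groth.Agent.AlbCurve.ClosedImm

/-!
# The induction step in Torelli's theorem
-/

set_option autoImplicit false
set_option maxHeartbeats 3200000
set_option linter.style.haveILetI false
set_option linter.unusedSectionVars false
set_option backward.isDefEq.respectTransparency false
set_option backward.isDefEq.respectTransparency.types false

universe u

open CategoryTheory CategoryTheory.Limits AlgebraicGeometry TopologicalSpace Opposite MonoidalCategory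
  CartesianMonoidalCategory MonObj

noncomputable section

namespace Groth.Agent.Torelli

open Groth.Agent
open Groth.Agent.JacVarLib (Pc hz dg O Pt pt KP img sm cls Os om PW pr)

/-- A morphism of groups as a homomorphism on rational points. -/
def kpHom {k : Type u} [Field k] {A B : Over (Spec (CommRingCat.of k))} [GrpObj A] [GrpObj B] (m : A ⟶ B)
    [IsMonHom m] : KP k A →* KP k B where
  toFun a := a ≫ m
  map_one' := MonObj.one_comp m
  map_mul' a b := MonObj.mul_comp a b m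

@[simp] theorem kpHom_apply {k : Type u} [Field k] {A B : Over (Spec (CommRingCat.of k))} [GrpObj A] [GrpObj B]
    (m : A ⟶ B) [IsMonHom m] (a : KP k A) : kpHom m a = a ≫ m := rfl

variable (k : Type u) [Field k] [IsAlgClosed k]
  {C : Scheme.{u}} [C.Over (Spec (CommRingCat.of k))] [IsProper (C ↘ Spec (CommRingCat.of k))] [IsIntegral C]
  [Smooth (C ↘ Spec (CommRingCat.of k))] [GeometricallyConnected (C ↘ Spec (CommRingCat.of k))]
  (hdim : topologicalKrullDim C = 1)
  {C' : Scheme.{u}} [C'.Over (Spec (CommRingCat.of k))] [IsProper (C' ↘ Spec (CommRingCat.of k))] [IsIntegral C']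
  [Smooth (C' ↘ Spec (CommRingCat.of k))] [GeometricallyConnected (C' ↘ Spec (CommRingCat.of k))]
  (hdim' : topologicalKrullDim C' = 1)
  {σ : Spec (CommRingCat.of k) ⟶ C} (hσ : σ ≫ C ↘ Spec (CommRingCat.of k) = 𝟙 _)
  {σ' : Spec (CommRingCat.of k) ⟶ C'} (hσ' : σ' ≫ C' ↘ Spec (CommRingCat.of k) = 𝟙 _)
  {J J' : Over (Spec (CommRingCat.of k))} [GrpObj J] [IsCommMonObj J] [GrpObj J'] [IsCommMonObj J']
  {ψ : (ModFun.PicDeg (C ↘ Spec (CommRingCat.of k)) 0).Hom ⊤ J}
  (hJ : Jac.IsJacobian (C ↘ Spec (CommRingCat.of k)) ⊤ J ψ)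
  {j : Over.mk (C ↘ Spec (CommRingCat.of k)) ⟶ J}
  (hj : Jac.IsAbelJacobiAt (C ↘ Spec (CommRingCat.of k)) σ ψ j)
  {ψ' : (ModFun.PicDeg (C' ↘ Spec (CommRingCat.of k)) 0).Hom ⊤ J'}
  (hJ' : Jac.IsJacobian (C' ↘ Spec (CommRingCat.of k)) ⊤ J' ψ')
  {j' : Over.mk (C' ↘ Spec (CommRingCat.of k)) ⟶ J'}
  (hj' : Jac.IsAbelJacobiAt (C' ↘ Spec (CommRingCat.of k)) σ' ψ' j')
  {m : J ⟶ J'} [IsMonHom m] {mi : J' ⟶ J} [IsMonHom mi] (hmmi : m ≫ mi = 𝟙 J) (hmim : mi ≫ m = 𝟙 J')

include hdim hσ hdim' hσ' hJ hj hJ' hj' hmmi hmim in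
/-- **The induction step**: the image of the curve in a translate of `W^(r+1)`, `1 ≤ r`, lies in a translate of
`W^r` or of its reflection. -/
theorem step {n : ℕ} (hn : Curv2.genus k C = n + 1) (hn' : Curv2.genus k C' = n + 1) (t : KP k J')
    (hW : ∀ c : KP k J, 0 < hz k (cls k hdim hJ c * Os k hdim σ hσ ^ n) ↔
      0 < hz k (cls k hdim' hJ' (c ≫ m * t) * Os k hdim' σ' hσ' ^ n))
    {r : ℕ} (h1r : 1 ≤ r) (hrn : r + 1 ≤ n) (a : KP k J')
    (hA : ∀ z : KP k (Over.mk (C ↘ Spec (CommRingCat.of k))),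
      0 < hz k (cls k hdim' hJ' ((z ≫ j ≫ m) * a⁻¹) * Os k hdim' σ' hσ' ^ (r + 1)))
    (hno1 : ∀ a' : KP k J', ¬ ∀ z : KP k (Over.mk (C ↘ Spec (CommRingCat.of k))),
      0 < hz k (cls k hdim' hJ' ((z ≫ j ≫ m) * a'⁻¹) * Os k hdim' σ' hσ' ^ r))
    (hno2 : ∀ a' : KP k J', ¬ ∀ z : KP k (Over.mk (C ↘ Spec (CommRingCat.of k))),
      0 < hz k (cls k hdim' hJ' ((z ≫ j ≫ m)⁻¹ * a'⁻¹) * Os k hdim' σ' hσ' ^ r)) : False := by
  classical
  haveI := PicRep.smoothOfRelativeDimension_one k C' hdim'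
  haveI := PicRep.smoothOfRelativeDimension_one k C hdim
  obtain ⟨l, rfl⟩ : ∃ l, n = r + (l + 1) := ⟨n - r - 1, by omega⟩
  obtain ⟨nn, hnn⟩ : ∃ nn, r + (l + 1) = nn + 1 := ⟨r + l, rfl⟩
  haveI := irreducibleSpace_PW k hdim' (l + 1)
  haveI : JacobsonSpace (PW k (C := C') (l + 1)).left :=
    LocallyOfFiniteType.jacobsonSpace (PW k (C := C') (l + 1)).hom
  let S := Os k hdim σ hσ
  let S' := Os k hdim' σ' hσ'
  let c := cls k hdim hJ
  let c' := cls k hdim' hJ'
  let f : KP k J →* KP k J' := kpHom m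
  let fi : KP k J' →* KP k J := kpHom mi
  have hfi : ∀ u, f (fi u) = u := fun u => by
    show (u ≫ mi) ≫ m = u
    rw [Category.assoc, hmim, Category.comp_id]
  have hcm : ∀ u v, c (u * v) = c u * c v := JacVarLib.cls_mul k hdim hJ
  have hci : ∀ u, c u⁻¹ = (c u)⁻¹ := JacVarLib.cls_inv k hdim hJ
  have hc'm : ∀ u v, c' (u * v) = c' u * c' v := JacVarLib.cls_mul k hdim' hJ'
  have hc'i : ∀ u, c' u⁻¹ = (c' u)⁻¹ := JacVarLib.cls_inv k hdim' hJ'
  have hdS : dg k S = 1 := JacVarLib.dg_O k hdim _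
  have hdS' : dg k S' = 1 := JacVarLib.dg_O k hdim' _
  -- the classes of degree `r + 1`
  let D : KP k (Over.mk (C ↘ Spec (CommRingCat.of k))) → Pc C' := fun z => c' ((z ≫ j ≫ m) * a⁻¹) * S' ^ (r + 1)
  have hdD : ∀ z, dg k (D z) = (r + 1 : ℕ) := fun z => by
    simp only [D, c', JacVarLib.dg_mul k hdim', JacVarLib.dg_cls, JacVarLib.dg_pow k hdim', hdS']
    simp
  obtain ⟨z₀, hz₀⟩ : ∃ z₀, hz k (D z₀) = 1 := by
    by_contra hcon
    push Not at hcon
    obtain ⟨y₀, -⟩ := JacVarLib.exists_pt_mem k (U := (Set.univ : Set C')) isOpen_univ ⟨genericPoint C', trivial⟩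
    obtain ⟨P, rfl⟩ := JacVarLib.exists_pt k y₀
    refine hno1 (a * (P ≫ j')) fun z => ?_
    have h2 : 2 ≤ hz k (D z) := by
      have h1 := hA z
      change 0 < hz k (D z) at h1
      have := hcon z
      omega
    rw [show cls k hdim' hJ' ((z ≫ j ≫ m) * (a * (P ≫ j'))⁻¹) * Os k hdim' σ' hσ' ^ r = D z / O k hdim' (pt k P) by
      simp only [D, c', JacVarLib.cls_mul, JacVarLib.cls_inv, JacVarLib.cls_point k hdim' σ' hσ' hJ' hj', S', pow_succ]
      cgroup]
    by_cases hg : (pt k P).1 ∈ JacVarLib.gen (D z)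
    · have := (JacVarLib.hz_div_O k hdim' (D z) (pt k P)).1 hg; omega
    · have := (JacVarLib.hz_div_O k hdim' (D z) (pt k P)).2 hg; omega
  obtain ⟨d, hd⟩ := JacVarLib.eff_of_hz_pos k hdim' (hdD z₀) (by omega)
  -- parameters
  let Q : KP k (PW k (C := C') (l + 1)) → Fin (l + 1) → Pt C' := fun q i => pt k (q ≫ pr k (l + 1) i)
  let Qc : KP k (PW k (C := C') (l + 1)) → Pc C' := fun q => ∏ i, O k hdim' (Q q i)
  let y : KP k (PW k (C := C') (l + 1)) → KP k J' := fun q => q ≫ sm k j' (l + 1)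
  have hy : ∀ q, c' (y q) = Qc q / S' ^ (l + 1) := fun q => JacVarLib.cls_comp_sm k hdim' σ' hσ' hJ' hj' (l + 1) q
  let V : KP k (Over.mk (C' ↘ Spec (CommRingCat.of k))) → KP k (PW k (C := C') (l + 1)) → Pc C := fun P q =>
    om k hdim / S ^ nn * c (fi (a * t)) * c (fi (P ≫ j')) / c (fi (y q))
  have hdV : ∀ P q, dg k (V P q) = (nn + 2 : ℕ) := fun P q => by
    simp only [V, c, JacVarLib.dg_mul k hdim, JacVarLib.dg_div k hdim, JacVarLib.dg_cls, JacVarLib.dg_pow k hdim,
      JacVarLib.dg_om, hn, hdS]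
    push_cast
    omega
  have hI : ∀ P q z, 0 < hz k (V P q / O k hdim (pt k z)) ↔ 0 < hz k (D z * Qc q / O k hdim' (pt k P)) := by
    intro P q z
    let u : KP k J := fi ((a * (P ≫ j') * (y q)⁻¹ * t)⁻¹)
    have hX : V P q / O k hdim (pt k z) = om k hdim / (c ((z ≫ j) * u) * S ^ (r + (l + 1))) := by
      simp only [V, u, map_inv, map_mul, hcm, hci]
      rw [show c (z ≫ j) = O k hdim (pt k z) / S from JacVarLib.cls_point k hdim σ hσ hJ hj z, hnn, pow_succ]
      cgroup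
    have hrr := JacVarLib.rr k hdim (c ((z ≫ j) * u) * S ^ (r + (l + 1)))
    rw [JacVarLib.dg_mul k hdim, JacVarLib.dg_cls, JacVarLib.dg_pow k hdim, hdS, hn, ← hX] at hrr
    have hw := hW ((z ≫ j) * u)
    have hXf : cls k hdim' hJ' (((z ≫ j) * u) ≫ m * t) * Os k hdim' σ' hσ' ^ (r + (l + 1)) =
        D z * Qc q / O k hdim' (pt k P) := by
      rw [show ((z ≫ j) * u) ≫ m = f ((z ≫ j) * u) from rfl, map_mul, show f u = _ from hfi _,
        show f (z ≫ j) = z ≫ j ≫ m from (Category.assoc z j m : (z ≫ j) ≫ m = z ≫ j ≫ m)]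
      simp only [D, c', hc'm, hc'i, JacVarLib.cls_mul, JacVarLib.cls_inv]
      rw [show cls k hdim' hJ' (P ≫ j') = O k hdim' (pt k P) / S' from JacVarLib.cls_point k hdim' σ' hσ' hJ' hj' P,
        show cls k hdim' hJ' (y q) = Qc q / S' ^ (l + 1) from hy q]
      simp only [S', pow_add, pow_one]
      cgroup
    rw [hXf] at hw
    rw [← hw]
    change _ ↔ 0 < hz k (c ((z ≫ j) * u) * S ^ (r + (l + 1)))
    push_cast at hrr
    omega
  have hVpos : ∀ P q, 0 < hz k (V P q) := fun P q => by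
    have h := JacVarLib.rr k hdim (V P q)
    rw [hdV, hn] at h
    push_cast at h
    omega
  -- good points and good parameters
  let Good : KP k (Over.mk (C' ↘ Spec (CommRingCat.of k))) → Prop := fun P => ∀ i, d i ≠ pt k P
  let GoodQ : KP k (Over.mk (C' ↘ Spec (CommRingCat.of k))) → KP k (PW k (C := C') (l + 1)) → Prop := fun P q =>
    hz k (D z₀ * Qc q) ≤ 1 ∧ hz k (Qc q / O k hdim' (pt k P)) = 0
  have hVone : ∀ P q, Good P → GoodQ P q → hz k (V P q) = 1 := by
    intro P q hP hq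
    by_contra hne
    have hpos := hVpos P q
    have h2 : 0 < hz k (V P q / O k hdim (pt k z₀)) := by
      by_cases hg : (pt k z₀).1 ∈ JacVarLib.gen (V P q)
      · have := (JacVarLib.hz_div_O k hdim (V P q) (pt k z₀)).1 hg; omega
      · have := (JacVarLib.hz_div_O k hdim (V P q) (pt k z₀)).2 hg; omega
    rw [hI] at h2
    have happ : (∏ i, O k hdim' (Fin.append d (Q q) i)) = D z₀ * Qc q := by
      rw [Fin.prod_univ_add]; simp only [Fin.append_left, Fin.append_right, hd, Qc]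
    have h1 : hz k (D z₀ * Qc q) = 1 := by
      have := JacVarLib.hz_pos_of_eff k hdim' (n := r + 1 + (l + 1)) ⟨Fin.append d (Q q), happ.symm⟩
      have := hq.1
      omega
    obtain ⟨i, hi⟩ := JacVarLib.mem_of_hz_eq_one k hdim' (Fin.append d (Q q)) (by rw [happ]; exact h1) (pt k P)
      (by rw [happ]; exact h2)
    revert hi
    refine Fin.addCases (fun i hi => ?_) (fun i hi => ?_) i
    · rw [Fin.append_left] at hi
      exact hP i hi
    · rw [Fin.append_right] at hi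
      have := hz_div_pos_of_mem k hdim' (Q q) i
      rw [hi] at this
      have h9 : 0 < hz k (Qc q / O k hdim' (pt k P)) := this
      have := hq.2
      omega
  let inF : KP k (Over.mk (C' ↘ Spec (CommRingCat.of k))) → Pt C → Prop := fun P x =>
    ∃ z, pt k z = x ∧ 0 < hz k (D z / O k hdim' (pt k P))
  let inE : KP k (PW k (C := C') (l + 1)) → Pt C → Prop := fun q x =>
    ∃ z, pt k z = x ∧ 0 < hz k (om k hdim' / (D z * Qc q))
  have hsplit : ∀ P q x, GoodQ P q → 0 < hz k (V P q / O k hdim x) → inF P x ∨ inE q x := by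
    intro P q x hq hx
    obtain ⟨z, rfl⟩ := JacVarLib.exists_pt k x
    rw [hI] at hx
    by_contra hcon
    push Not at hcon
    have hF : ¬ 0 < hz k (D z / O k hdim' (pt k P)) := fun h => hcon.1 ⟨z, rfl, h⟩
    have hE : ¬ 0 < hz k (om k hdim' / (D z * Qc q)) := fun h => hcon.2 ⟨z, rfl, h⟩
    obtain ⟨e, he⟩ := JacVarLib.eff_of_hz_pos k hdim' (hdD z) (hA z)
    have happ : (∏ i, O k hdim' (Fin.append e (Q q) i)) = D z * Qc q := by
      rw [Fin.prod_univ_add]; simp only [Fin.append_left, Fin.append_right, he, Qc]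
    have hrr := JacVarLib.rr k hdim' (D z * Qc q)
    rw [JacVarLib.dg_mul k hdim', hdD, show dg k (Qc q) = (l + 1 : ℕ) from JacVarLib.dg_of_eff k hdim' ⟨Q q, rfl⟩,
      hn'] at hrr
    push_cast at hrr
    obtain ⟨i, hi⟩ := JacVarLib.mem_of_hz_eq_one k hdim' (Fin.append e (Q q)) (by rw [happ]; omega) (pt k P)
      (by rw [happ]; exact hx)
    revert hi
    refine Fin.addCases (fun i hi => ?_) (fun i hi => ?_) i
    · rw [Fin.append_left] at hi
      have := hz_div_pos_of_mem k hdim' e i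
      rw [hi, ← he] at this
      exact hF this
    · rw [Fin.append_right] at hi
      have := hz_div_pos_of_mem k hdim' (Q q) i
      rw [hi] at this
      have h9 : 0 < hz k (Qc q / O k hdim' (pt k P)) := this
      have := hq.2
      omega
  have hFI : ∀ P q x, inF P x → 0 < hz k (V P q / O k hdim x) := by
    rintro P q _ ⟨z, rfl, hzF⟩
    rw [hI, mul_div_right_comm]
    exact JacVarLib.hz_mul_pos k hdim' hzF (JacVarLib.hz_pos_of_eff k hdim' ⟨Q q, rfl⟩)
  have hEI : ∀ P q x, inE q x → 0 < hz k (V P q / O k hdim x) := by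
    rintro P q _ ⟨z, rfl, hzE⟩
    rw [hI]
    have hrr := JacVarLib.rr k hdim' (D z * Qc q)
    rw [JacVarLib.dg_mul k hdim', hdD, show dg k (Qc q) = (l + 1 : ℕ) from JacVarLib.dg_of_eff k hdim' ⟨Q q, rfl⟩,
      hn'] at hrr
    push_cast at hrr
    by_cases hg : (pt k P).1 ∈ JacVarLib.gen (D z * Qc q)
    · have := (JacVarLib.hz_div_O k hdim' (D z * Qc q) (pt k P)).1 hg; omega
    · have := (JacVarLib.hz_div_O k hdim' (D z * Qc q) (pt k P)).2 hg; omega
  -- the open sets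
  obtain ⟨O1, hO1⟩ := JacVarLib.exists_open_hz_le k hdim' (D z₀) (fun _ : Fin (l + 1) => (1 : ℤ))
  have hU : ∀ P, Good P → ∃ U : (PW k (C := C') (l + 1)).left.Opens, (U : Set (PW k (C := C') (l + 1)).left).Nonempty ∧
      ∀ q, img k q ∈ U → GoodQ P q := by
    intro P hP
    obtain ⟨O2, hO2⟩ := exists_open_not_eff k hdim' hσ' hJ' hj' (sm k j' (l + 1) ≫ Jac.transl J' (P ≫ j')⁻¹) l
    have hcomb : ∀ q, JacVarLib.comb k hdim' (D z₀) (fun _ : Fin (l + 1) => (1 : ℤ)) (Q q) = D z₀ * Qc q := fun q => by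
      simp only [JacVarLib.comb, zpow_one, Qc]
    have hQ2 : ∀ q : KP k (PW k (C := C') (l + 1)),
        cls k hdim' hJ' (q ≫ sm k j' (l + 1) ≫ Jac.transl J' (P ≫ j')⁻¹) * Os k hdim' σ' hσ' ^ l =
          Qc q / O k hdim' (pt k P) := fun q => by
      rw [← Category.assoc, JacVarLib.kp_comp_transl, toUnit_unit, Category.id_comp, JacVarLib.cls_mul,
        JacVarLib.cls_inv, show cls k hdim' hJ' (q ≫ sm k j' (l + 1)) = Qc q / S' ^ (l + 1) from hy q,
        JacVarLib.cls_point k hdim' σ' hσ' hJ' hj' P]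
      simp only [S', pow_succ]
      cgroup
    refine ⟨O1 ⊓ O2, ?_, fun q hq => ⟨?_, ?_⟩⟩
    · refine nonempty_preirreducible_inter O1.isOpen O2.isOpen ?_ ?_
      · obtain ⟨x, hx⟩ := extend_hz_one k hdim' (hdD z₀) hz₀ (l + 1) (by omega)
        obtain ⟨q, hq⟩ := JacVarLib.exists_tuple k x
        refine ⟨img k q, (hO1 q).2 ?_⟩
        rw [show (fun i => pt k (q ≫ pr k (l + 1) i)) = Q q from rfl, hcomb]
        simp only [Qc, Q, hq]
        omega
      · obtain ⟨x, hx0, hxi, hx1⟩ := AlbCurve.exists_completion k hdim' (by omega) (pt k P) (l + 1) (by omega)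
        obtain ⟨q, hq⟩ := JacVarLib.exists_tuple k (fun i : Fin (l + 1) => x i.succ)
        refine ⟨img k q, (hO2 q).2 ?_⟩
        rw [hQ2]
        simp only [Qc, Q, hq]
        refine hz_div_eq_zero k hdim' _ ?_ fun i hi => Fin.succ_ne_zero i (hxi (hi.trans hx0.symm))
        rw [Fin.prod_univ_succ, mul_comm] at hx1
        have := (JacVarLib.hz_mul_O k hdim' (∏ i : Fin (l + 1), O k hdim' (x i.succ)) (x 0)).1
        have : 0 < hz k (∏ i : Fin (l + 1), O k hdim' (x i.succ)) :=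
          JacVarLib.hz_pos_of_eff k hdim' (n := l + 1) ⟨fun i => x i.succ, rfl⟩
        omega
    · have := (hO1 q).1 hq.1
      rwa [show (fun i => pt k (q ≫ pr k (l + 1) i)) = Q q from rfl, hcomb] at this
    · have := (hO2 q).1 hq.2
      rwa [hQ2] at this
  -- two points varying with `P` are impossible
  have htwo : ∀ P (U : (PW k (C := C') (l + 1)).left.Opens), (U : Set (PW k (C := C') (l + 1)).left).Nonempty →
      ∀ u₁ u₂ : Pt C, ∃ U' : (PW k (C := C') (l + 1)).left.Opens,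
        (U' : Set (PW k (C := C') (l + 1)).left).Nonempty ∧ U' ≤ U ∧
          ∀ q, img k q ∈ U' → hz k (V P q / (O k hdim u₁ * O k hdim u₂)) = 0 := by
    intro P U hUne u₁ u₂
    obtain ⟨e, he⟩ := JacVarLib.exists_cls k hdim hJ
      (v := om k hdim / S ^ nn * c (fi (a * t)) * c (fi (P ≫ j')) / (O k hdim u₁ * O k hdim u₂) / S ^ nn) (by
      simp only [c, JacVarLib.dg_div k hdim, JacVarLib.dg_mul k hdim, JacVarLib.dg_cls, JacVarLib.dg_pow k hdim,
        JacVarLib.dg_om, JacVarLib.dg_O, hn, hdS]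
      push_cast
      omega)
    let hQ : PW k (C := C') (l + 1) ⟶ J := sm k j' (l + 1) ≫ mi ≫ (𝟙 J)⁻¹ ≫ Jac.transl J e
    have hQv : ∀ q, q ≫ hQ = (fi (y q))⁻¹ * e := fun q => by
      simp only [hQ, ← Category.assoc]
      rw [JacVarLib.kp_comp_transl, toUnit_unit, Category.id_comp, GrpObj.comp_inv, Category.comp_id]
      rfl
    have hval : ∀ q, cls k hdim hJ (q ≫ hQ) * Os k hdim σ hσ ^ nn = V P q / (O k hdim u₁ * O k hdim u₂) := fun q => by
      rw [hQv, JacVarLib.cls_mul, JacVarLib.cls_inv, he]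
      simp only [V, S, c]
      cgroup
    obtain ⟨O3, hO3⟩ := exists_open_not_eff k hdim hσ hJ hj hQ nn
    refine ⟨U ⊓ O3, nonempty_preirreducible_inter U.isOpen O3.isOpen hUne ?_, inf_le_left, fun q hq => ?_⟩
    · by_contra hemp
      obtain ⟨a', ha'⟩ := JacVarLib.exists_cls k hdim' hJ'
        (v := c' (e ≫ m * t) * S' ^ (r + (l + 1) + (l + 1) + r) / om k hdim') (by
        simp only [c', JacVarLib.dg_div k hdim', JacVarLib.dg_mul k hdim', JacVarLib.dg_cls, JacVarLib.dg_pow k hdim',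
          JacVarLib.dg_om, hn', hdS']
        push_cast
        omega)
      refine hno2 a' fun z => ?_
      let w : KP k J' := (z ≫ j ≫ m) * (e ≫ m * t)
      have hV' : l + 1 < hz k (c' w * S' ^ (r + (l + 1) + (l + 1))) := hz_gt_of_forall k hdim' (l + 1) _ fun x => by
        obtain ⟨q, hq⟩ := JacVarLib.exists_tuple k x
        have h1 : ¬ img k q ∈ O3 := fun h => hemp ⟨_, h⟩
        rw [hO3, hval] at h1
        have h2 : 0 < hz k (V P q / (O k hdim u₁ * O k hdim u₂) * O k hdim (pt k z)) :=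
          JacVarLib.hz_mul_pos k hdim (by omega) (JacVarLib.hz_pos_of_eff k hdim (JacVarLib.eff_O k hdim _))
        rw [show V P q / (O k hdim u₁ * O k hdim u₂) * O k hdim (pt k z) =
            cls k hdim hJ ((q ≫ hQ) * (z ≫ j)) * Os k hdim σ hσ ^ (r + (l + 1)) by
          rw [← hval, JacVarLib.cls_mul, JacVarLib.cls_point k hdim σ hσ hJ hj z, hnn, pow_succ]
          cgroup, hW] at h2
        rw [show (q ≫ hQ * (z ≫ j)) ≫ m = f ((q ≫ hQ) * (z ≫ j)) from rfl, hQv, map_mul, map_mul, map_inv, hfi,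
          show f e = e ≫ m from rfl, show f (z ≫ j) = z ≫ j ≫ m from (Category.assoc z j m : (z ≫ j) ≫ m = z ≫ j ≫ m)] at h2
        refine lt_of_lt_of_eq h2 (congrArg (hz k) ?_)
        simp only [w, c', S', JacVarLib.cls_mul, JacVarLib.cls_inv, pow_add, pow_one]
        rw [show cls k hdim' hJ' (y q) = Qc q / S' ^ (l + 1) from hy q,
          show (∏ i, O k hdim' (x i)) = Qc q by simp only [Qc, Q, hq]]
        simp only [S', pow_succ]
        cgroup
      have hrr := JacVarLib.rr k hdim' (c' w * S' ^ (r + (l + 1) + (l + 1)))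
      rw [JacVarLib.dg_mul k hdim', JacVarLib.dg_cls, JacVarLib.dg_pow k hdim', hdS', hn'] at hrr
      push_cast at hrr
      rw [show cls k hdim' hJ' ((z ≫ j ≫ m)⁻¹ * a'⁻¹) * Os k hdim' σ' hσ' ^ r =
          om k hdim' / (c' w * S' ^ (r + (l + 1) + (l + 1))) by
        simp only [w, c', JacVarLib.cls_mul, JacVarLib.cls_inv, ha', S', pow_add]
        cgroup]
      omega
    · have := (hO3 q).1 hq.2
      rwa [hval] at this
  -- the single variable point
  have hG : ∀ P, Good P → ∃ G : (PW k (C := C') (l + 1)).left.Opens,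
      (G : Set (PW k (C := C') (l + 1)).left).Nonempty ∧ (∀ q, img k q ∈ G → GoodQ P q) ∧
        ∀ x, inF P x → (∀ x', inF P x' → x' = x) ∧
          ∀ q, img k q ∈ G → hz k (V P q / (O k hdim x * O k hdim x)) = 0 := by
    intro P hP
    obtain ⟨U, hUne, hUg⟩ := hU P hP
    by_cases hF : ∃ x, inF P x
    · obtain ⟨x₁, hx₁⟩ := hF
      have huniq : ∀ x', inF P x' → x' = x₁ := by
        intro x' hx'
        by_contra hne
        obtain ⟨U', hU'ne, hU'le, hU'0⟩ := htwo P U hUne x₁ x'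
        obtain ⟨p, hpU, hpc⟩ := nonempty_inter_closedPoints hU'ne U'.isOpen.isLocallyClosed
        obtain ⟨q, rfl⟩ := JacVarLib.exists_kp k hpc
        have hq := hUg q (hU'le hpU)
        obtain ⟨x, hx⟩ := JacVarLib.eff_of_hz_pos k hdim (hdV P q) (hVpos P q)
        have h1 : hz k (∏ i, O k hdim (x i)) = 1 := hx ▸ hVone P q hP hq
        obtain ⟨i₁, hi₁⟩ := JacVarLib.mem_of_hz_eq_one k hdim x h1 x₁ (hx ▸ hFI P q x₁ hx₁)
        obtain ⟨i₂, hi₂⟩ := JacVarLib.mem_of_hz_eq_one k hdim x h1 x' (hx ▸ hFI P q x' hx')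
        obtain ⟨i', rfl⟩ := Fin.exists_succAbove_eq (x := i₂) (y := i₁) fun h => hne (by rw [← hi₁, ← hi₂, h])
        have h0 := hU'0 q hpU
        rw [hx, Fin.prod_univ_succAbove _ i₁, ← hi₁, ← hi₂, mul_div_mul_left_eq_div] at h0
        have := hz_div_pos_of_mem k hdim (fun i => x (i₁.succAbove i)) i'
        omega
      obtain ⟨U', hU'ne, hU'le, hU'0⟩ := htwo P U hUne x₁ x₁
      refine ⟨U', hU'ne, fun q hq => hUg q (hU'le hq), fun x hx => ?_⟩
      obtain rfl := huniq x hx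
      exact ⟨huniq, hU'0⟩
    · exact ⟨U, hUne, hUg, fun x hx => absurd ⟨x, hx⟩ hF⟩
  choose G hGne hGq hGF using hG
  -- a parameter good for finitely many points
  have hcommon : ∀ (T : Finset (KP k (Over.mk (C' ↘ Spec (CommRingCat.of k))))) (hT : ∀ P ∈ T, Good P),
      ∃ q, ∀ (P) (hP : P ∈ T), img k q ∈ G P (hT P hP) := by
    intro T hT
    have hne : (⋂ P : T, (G P.1 (hT P.1 P.2) : Set (PW k (C := C') (l + 1)).left)).Nonempty := by
      have h := isIrreducible_iff_sInter.1 (IrreducibleSpace.isIrreducible_univ (X := (PW k (C := C') (l + 1)).left))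
        (Finset.univ.image fun P : T => (G P.1 (hT P.1 P.2) : Set (PW k (C := C') (l + 1)).left))
        (fun u hu => by
          obtain ⟨P, -, rfl⟩ := Finset.mem_image.1 hu
          exact (G P.1 (hT P.1 P.2)).isOpen)
        (fun u hu => by
          obtain ⟨P, -, rfl⟩ := Finset.mem_image.1 hu
          rw [Set.univ_inter]
          exact hGne P.1 _)
      obtain ⟨p, -, hp⟩ := h
      exact ⟨p, Set.mem_iInter.2 fun P => hp _ (Finset.mem_image_of_mem _ (Finset.mem_univ P))⟩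
    obtain ⟨p, hp, hpc⟩ := nonempty_inter_closedPoints hne
      (isOpen_iInter_of_finite fun P : T => (G P.1 (hT P.1 P.2)).isOpen).isLocallyClosed
    obtain ⟨q, rfl⟩ := JacVarLib.exists_kp k hpc
    exact ⟨q, fun P hP => Set.mem_iInter.1 hp ⟨P, hP⟩⟩
  let X : KP k (Over.mk (C' ↘ Spec (CommRingCat.of k))) → Pc C := fun P => c (fi (P ≫ j'))
  have hXinj : Function.Injective X := fun P₁ P₂ h => by
    have h1 := congrArg f (JacVarLib.cls_injective k hdim hJ h)
    rw [hfi, hfi] at h1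
    have h2 := congrArg c' h1
    simp only [c', JacVarLib.cls_point k hdim' σ' hσ' hJ' hj', div_left_inj] at h2
    exact JacVarLib.pt_injective k (JacVarLib.O_injective k hdim' (by omega) h2)
  let V0 : KP k (PW k (C := C') (l + 1)) → Pc C := fun q => om k hdim / S ^ nn * c (fi (a * t)) / c (fi (y q))
  have hXV : ∀ P q, X P = V P q / V0 q := fun P q => by
    simp only [X, V, V0]
    cgroup
  -- points without a variable point
  let T0 : Set (KP k (Over.mk (C' ↘ Spec (CommRingCat.of k)))) := {P | Good P ∧ ∀ x, ¬ inF P x}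
  have hT0 : T0.Finite := by
    by_contra hinf
    obtain ⟨T, hTsub, hTcard⟩ := Set.Infinite.exists_subset_card_eq hinf
      (Fintype.card (Fin (nn + 2) → Fin (nn + 2)) + 1)
    obtain ⟨q, hq⟩ := hcommon T fun P hP => (hTsub hP).1
    obtain ⟨P₀, hP₀⟩ : T.Nonempty := Finset.card_pos.1 (by omega)
    obtain ⟨x₀, hx₀⟩ := JacVarLib.eff_of_hz_pos k hdim (hdV P₀ q) (hVpos P₀ q)
    have h10 : hz k (∏ i, O k hdim (x₀ i)) = 1 :=
      hx₀ ▸ hVone P₀ q (hTsub hP₀).1 (hGq _ _ q (hq P₀ hP₀))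
    have hval : ∀ P ∈ T, ∃ e : Fin (nn + 2) → Fin (nn + 2), X P = (∏ i, O k hdim (x₀ (e i))) / V0 q := by
      intro P hP
      obtain ⟨x, hx⟩ := JacVarLib.eff_of_hz_pos k hdim (hdV P q) (hVpos P q)
      have hE : ∀ i, ∃ i', x₀ i' = x i := fun i => by
        rcases hsplit P q (x i) (hGq _ _ q (hq P hP)) (hx ▸ hz_div_pos_of_mem k hdim x i) with h | h
        · exact absurd h ((hTsub hP).2 _)
        · exact JacVarLib.mem_of_hz_eq_one k hdim x₀ h10 _ (hx₀ ▸ hEI P₀ q _ h)
      choose e he using hE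
      exact ⟨e, by rw [hXV P q, hx]; simp only [he]⟩
    choose e he using hval
    have hle := Fintype.card_le_of_injective (fun P : T => e P.1 P.2) fun P₁ P₂ h =>
      Subtype.ext (hXinj (by rw [he _ P₁.2, he _ P₂.2]; simp only at h; rw [h]))
    rw [Fintype.card_coe] at hle
    omega
  -- points with a variable point
  let T1 : Set (KP k (Over.mk (C' ↘ Spec (CommRingCat.of k)))) := {P | Good P ∧ ∃ x, inF P x}
  have hT1 : T1.Infinite := by
    intro hfin
    have hbad : {P : KP k (Over.mk (C' ↘ Spec (CommRingCat.of k))) | ¬ Good P}.Finite := by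
      refine ((Set.finite_range d).preimage (JacVarLib.pt_injective k).injOn).subset fun P hP => ?_
      simp only [Good, Set.mem_setOf_eq, not_forall, not_not] at hP
      exact hP
    have huniv : (Set.univ : Set (KP k (Over.mk (C' ↘ Spec (CommRingCat.of k))))).Finite :=
      ((hbad.union hT0).union hfin).subset fun P _ => by
        by_cases hP : Good P
        · by_cases hx : ∃ x, inF P x
          · exact Or.inr ⟨hP, hx⟩
          · exact Or.inl (Or.inr ⟨hP, fun x hxF => hx ⟨x, hxF⟩⟩)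
        · exact Or.inl (Or.inl hP)
    obtain ⟨x, hx⟩ := JacVarLib.exists_pt_ne k hdim' (huniv.image (pt k)).toFinset
    obtain ⟨P, rfl⟩ := JacVarLib.exists_pt k x
    exact hx ((Set.Finite.mem_toFinset _).2 ⟨P, trivial, rfl⟩)
  haveI : Nonempty (Pt C) := ⟨pt k z₀⟩
  choose! uP huP using fun P (hP : P ∈ T1) => hP.2
  let hh : KP k (Over.mk (C' ↘ Spec (CommRingCat.of k))) → Pc C := fun P => X P / O k hdim (uP P)
  have himg : (hh '' T1).Finite := by
    by_contra hinf
    obtain ⟨T', hT'sub, hT'card⟩ := Set.Infinite.exists_subset_card_eq hinf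
      (Fintype.card (Fin (nn + 1) → Fin (nn + 2)) + 1)
    choose pre hpre using fun v : T' => hT'sub v.2
    let T := Finset.univ.image pre
    have hTsub : ∀ P ∈ T, P ∈ T1 := fun P hP => by
      obtain ⟨v, -, rfl⟩ := Finset.mem_image.1 hP
      exact (hpre v).1
    obtain ⟨q, hq⟩ := hcommon T fun P hP => (hTsub P hP).1
    obtain ⟨v₀, hv₀⟩ : T'.Nonempty := Finset.card_pos.1 (by omega)
    have hP₀ : pre ⟨v₀, hv₀⟩ ∈ T := Finset.mem_image_of_mem _ (Finset.mem_univ _)
    obtain ⟨x₀, hx₀⟩ := JacVarLib.eff_of_hz_pos k hdim (hdV (pre ⟨v₀, hv₀⟩) q) (hVpos _ q)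
    have h10 : hz k (∏ i, O k hdim (x₀ i)) = 1 :=
      hx₀ ▸ hVone _ q (hTsub _ hP₀).1 (hGq _ _ q (hq _ hP₀))
    have hval : ∀ v : T', ∃ e : Fin (nn + 1) → Fin (nn + 2), v.1 = (∏ i, O k hdim (x₀ (e i))) / V0 q := by
      intro v
      have hP : pre v ∈ T := Finset.mem_image_of_mem _ (Finset.mem_univ _)
      obtain ⟨x, hx⟩ := JacVarLib.eff_of_hz_pos k hdim (hdV (pre v) q) (hVpos _ q)
      have h1 : hz k (∏ i, O k hdim (x i)) = 1 := hx ▸ hVone _ q (hTsub _ hP).1 (hGq _ _ q (hq _ hP))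
      have hu := huP _ (hTsub _ hP)
      obtain ⟨huniq, hu0⟩ := hGF _ (hTsub _ hP).1 _ hu
      have h0 := hu0 q (hq _ hP)
      obtain ⟨i₀, hi₀⟩ := JacVarLib.mem_of_hz_eq_one k hdim x h1 _ (hx ▸ hFI _ q _ hu)
      rw [hx, Fin.prod_univ_succAbove _ i₀, hi₀, mul_div_mul_left_eq_div] at h0
      have hE : ∀ i, ∃ i', x₀ i' = x (i₀.succAbove i) := fun i => by
        rcases hsplit (pre v) q (x (i₀.succAbove i)) (hGq _ _ q (hq _ hP))
          (hx ▸ hz_div_pos_of_mem k hdim x (i₀.succAbove i)) with h | h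
        · have := hz_div_pos_of_mem k hdim (fun l => x (i₀.succAbove l)) i
          rw [huniq _ h] at this
          omega
        · exact JacVarLib.mem_of_hz_eq_one k hdim x₀ h10 _ (hx₀ ▸ hEI _ q _ h)
      choose e he using hE
      refine ⟨e, ?_⟩
      rw [← (hpre v).2]
      simp only [hh, hXV (pre v) q, hx, he]
      rw [Fin.prod_univ_succAbove _ i₀, hi₀]
      cgroup
    choose e he using hval
    have hle := Fintype.card_le_of_injective e fun v₁ v₂ h => Subtype.ext (by rw [he, he, h])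
    rw [Fintype.card_coe] at hle
    omega
  obtain ⟨h0, hfib⟩ : ∃ h0, {P ∈ T1 | hh P = h0}.Infinite := by
    by_contra hcon
    push Not at hcon
    exact hT1 ((himg.biUnion fun v _ => hcon v).subset fun P hP => Set.mem_biUnion ⟨P, hP, rfl⟩ ⟨hP, rfl⟩)
  have hrel : ∀ P ∈ {P ∈ T1 | hh P = h0}, X P = h0 * O k hdim (uP P) := fun P hP => by
    rw [← hP.2]; simp only [hh]; rw [div_mul_cancel]
  obtain ⟨k₀, hk₀⟩ := JacVarLib.exists_cls k hdim hJ (v := h0 * S) (by
    obtain ⟨P, hP⟩ := hfib.nonempty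
    have h := congrArg (dg k) (hrel P hP)
    simp only [X, c, JacVarLib.dg_mul k hdim, JacVarLib.dg_cls, JacVarLib.dg_O] at h
    rw [JacVarLib.dg_mul k hdim, hdS]
    omega)
  choose zP hzP using fun P => JacVarLib.exists_pt k (uP P)
  have hsub : ∀ P ∈ {P ∈ T1 | hh P = h0}, P ≫ j' = (zP P ≫ j ≫ m) * (k₀ ≫ m) := fun P hP => by
    have h1 : fi (P ≫ j') = (zP P ≫ j) * k₀ := by
      refine JacVarLib.cls_injective k hdim hJ ?_
      rw [JacVarLib.cls_mul, hk₀, JacVarLib.cls_point k hdim σ hσ hJ hj, hzP]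
      refine (hrel P hP).trans ?_
      simp only [S]
      cgroup
    have h2 := congrArg f h1
    rw [hfi, map_mul] at h2
    refine h2.trans ?_
    rw [show f (zP P ≫ j) = zP P ≫ j ≫ m from (Category.assoc (zP P) j m : (zP P ≫ j) ≫ m = zP P ≫ j ≫ m)]
    rfl
  refine hno1 (k₀ ≫ m)⁻¹ fun z => ?_
  have hS : (zP '' {P ∈ T1 | hh P = h0}).Infinite := hfib.image fun P₁ h₁ P₂ h₂ h => hXinj (by
    rw [hrel _ h₁, hrel _ h₂, ← hzP, ← hzP, h])
  have hall := forall_of_infinite k hdim' hσ' hJ' hj' hdim (j ≫ m ≫ Jac.transl J' (k₀ ≫ m)) 1 hS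
    (fun w hw => by
      obtain ⟨P, hP, rfl⟩ := hw
      rw [show zP P ≫ j ≫ m ≫ Jac.transl J' (k₀ ≫ m) = (zP P ≫ j ≫ m) * (k₀ ≫ m) by
        rw [← Category.assoc j, ← Category.assoc, JacVarLib.kp_comp_transl, toUnit_unit, Category.id_comp],
        ← hsub P hP, JacVarLib.cls_point k hdim' σ' hσ' hJ' hj', pow_one, div_mul_cancel]
      exact JacVarLib.hz_pos_of_eff k hdim' (JacVarLib.eff_O k hdim' _)) z
  rw [show z ≫ j ≫ m ≫ Jac.transl J' (k₀ ≫ m) = (z ≫ j ≫ m) * (k₀ ≫ m) by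
    rw [← Category.assoc j, ← Category.assoc, JacVarLib.kp_comp_transl, toUnit_unit, Category.id_comp]] at hall
  obtain ⟨r', rfl⟩ : ∃ r', r = r' + 1 := ⟨r - 1, by omega⟩
  rw [inv_inv, pow_succ', ← _root_.mul_assoc]
  refine JacVarLib.hz_mul_pos k hdim' (by rwa [pow_one] at hall) ?_
  refine JacVarLib.hz_pos_of_eff k hdim' (n := r') ⟨fun _ => pt k (Over.homMk σ' hσ'), ?_⟩
  rw [Finset.prod_const, Finset.card_univ, Fintype.card_fin]

end Groth.Agent.Torelli
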