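import Groth.Agent.JacVarLib.W
import Groth.Agent.AlbCurve.Classes
import Groth.Agent.Jacobian.Dim
import Groth.Agent.CurveCohLib.SmoothCurve
import Groth.Agent.AlgSpDec.LimQuasiFiniteScheme
import Groth.Agent.VarDim.Top

/-!
# Tools for Torelli's theorem on one curve
-/

set_option autoImplicit false
set_option maxHeartbeats 1600000
set_option linter.style.haveILetI false
set_option linter.unusedSectionVars false
set_option backward.isDefEq.respectTransparency false
set_option backward.isDefEq.respectTransparency.types false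

universe u

open CategoryTheory CategoryTheory.Limits AlgebraicGeometry TopologicalSpace Opposite MonoidalCategory
  CartesianMonoidalCategory MonObj

noncomputable section

namespace Groth.Agent.Torelli

open Groth.Agent
open Groth.Agent.JacVarLib (Pc hz dg O Pt pt KP img sm cls Os om)

variable (k : Type u) [Field k] [IsAlgClosed k] {C : Scheme.{u}} [C.Over (Spec (CommRingCat.of k))]
  [IsProper (C ↘ Spec (CommRingCat.of k))] [IsIntegral C] [Smooth (C ↘ Spec (CommRingCat.of k))]
  [GeometricallyConnected (C ↘ Spec (CommRingCat.of k))]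
  (hdim : topologicalKrullDim C = 1)

include hdim in
/-- An effective class with one section extends by points. -/
theorem extend_hz_one {m : ℕ} {v : Pc C} (hd : dg k v = m) (h1 : hz k v = 1) :
    ∀ l : ℕ, m + l ≤ Curv2.genus k C → ∃ x : Fin l → Pt C, hz k (v * ∏ i, O k hdim (x i)) = 1
  | 0, _ => ⟨Fin.elim0, by rw [Fin.prod_univ_zero, _root_.mul_one]; exact h1⟩
  | l + 1, hl => by
    obtain ⟨x, hx⟩ := extend_hz_one hd h1 l (by omega)
    set w := v * ∏ i, O k hdim (x i) with hw
    have hdw : dg k w = (m + l : ℕ) := by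
      rw [hw, JacVarLib.dg_mul k hdim, hd, JacVarLib.dg_of_eff k hdim ⟨x, rfl⟩]; push_cast; rfl
    have e1 := JacVarLib.rr k hdim w
    obtain ⟨z, hz'⟩ := JacVarLib.exists_hz_drop k hdim (v := om k hdim / w) (by omega)
    have e2 := JacVarLib.rr k hdim (w * O k hdim z)
    rw [JacVarLib.dg_mul k hdim, JacVarLib.dg_O, ← div_div] at e2
    refine ⟨Fin.cons z x, ?_⟩
    rw [Fin.prod_univ_succ, Fin.cons_zero]
    simp only [Fin.cons_succ]
    rw [mul_comm (O k hdim z), ← _root_.mul_assoc, ← hw]
    omega

include hdim in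
/-- A class staying effective after removing any `m` points has more than `m` sections. -/
theorem hz_gt_of_forall : ∀ (m : ℕ) (v : Pc C), (∀ x : Fin m → Pt C, 0 < hz k (v / ∏ i, O k hdim (x i))) → m < hz k v
  | 0, v, h => by
    have := h Fin.elim0
    rwa [Fin.prod_univ_zero, div_one] at this
  | m + 1, v, h => by
    obtain ⟨x₀, -⟩ := JacVarLib.exists_pt_mem k (U := (Set.univ : Set C)) isOpen_univ ⟨genericPoint C, trivial⟩
    have hpos : 0 < hz k v := by
      have h1 := JacVarLib.hz_mul_pos k hdim (h fun _ => x₀)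
        (JacVarLib.hz_pos_of_eff k hdim (n := m + 1) ⟨fun _ => x₀, rfl⟩)
      rwa [div_mul_cancel] at h1
    obtain ⟨z, hz'⟩ := JacVarLib.exists_hz_drop k hdim hpos
    have := hz_gt_of_forall m (v / O k hdim z) fun x => by
      have h1 := h (Fin.cons z x)
      rw [Fin.prod_univ_succ, Fin.cons_zero] at h1
      simp only [Fin.cons_succ] at h1
      rwa [div_mul_eq_div_div] at h1
    omega

include hdim in
/-- A point of a divisor with one section stays below it only as one of its points. -/
theorem hz_div_eq_zero {n : ℕ} (x : Fin n → Pt C) (h1 : hz k (∏ i, O k hdim (x i)) = 1) {y : Pt C}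
    (hy : ∀ i, x i ≠ y) : hz k ((∏ i, O k hdim (x i)) / O k hdim y) = 0 := by
  by_contra h
  obtain ⟨i, hi⟩ := JacVarLib.mem_of_hz_eq_one k hdim x h1 y (by omega)
  exact hy i hi

include hdim in
theorem hz_div_pos_of_mem {n : ℕ} (x : Fin n → Pt C) (i : Fin n) :
    0 < hz k ((∏ l, O k hdim (x l)) / O k hdim (x i)) := by
  cases n with
  | zero => exact i.elim0
  | succ n =>
    rw [Fin.prod_univ_succAbove _ i, mul_div_cancel_left]
    exact JacVarLib.hz_pos_of_eff k hdim ⟨fun l => x (i.succAbove l), rfl⟩

include k hdim in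
/-- A closed subset containing infinitely many closed points is everything. -/
theorem eq_univ_of_infinite {Z : Set C} (hZ : IsClosed Z) {S : Set (Pt C)} (hS : S.Infinite)
    (h : ∀ x ∈ S, x.1 ∈ Z) : Z = Set.univ := by
  by_contra hne
  let p := C ↘ Spec (CommRingCat.of k)
  haveI := CurveCohLib.isNoetherian_of_proper (k := k) (X := C)
  have hη : VarDim.deg p (genericPoint C) = 1 := by
    have h := VarDim.topologicalKrullDim_eq_deg_genericPoint p
    rw [hdim] at h
    exact_mod_cast h.symm
  have hgen : genericPoint C ∉ Z := fun hg => hne (Set.eq_univ_of_forall fun y =>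
    (genericPoint_specializes y).mem_closed hZ hg)
  have hcl : ∀ a ∈ Z, IsClosed ({a} : Set C) := fun a ha => by
    refine (VarDim.closedPoint_iff_deg_eq_zero p a).2 ?_
    by_contra h0
    have hle := VarDim.deg_le_of_specializes p (genericPoint_specializes a)
    exact hgen ((VarDim.eq_of_specializes_of_deg_le p (genericPoint_specializes a) (by omega)).symm ▸ ha)
  have hfin : Z.Finite := AlgSpDec.finite_of_isClosed_of_specializes ⟨Z, hZ⟩ fun a ha b _ hab =>
    (Set.mem_singleton_iff.1 (hab.mem_closed (hcl a ha) rfl)).symm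
  exact hS ((hfin.preimage Subtype.val_injective.injOn).subset fun x hx => h x hx)

include hdim in
/-- The power of a curve is irreducible. -/
theorem irreducibleSpace_PW (r : ℕ) : IrreducibleSpace (JacVarLib.PW k (C := C) r).left := by
  haveI := PicRep.smoothOfRelativeDimension_one k C hdim
  let f := C ↘ Spec (CommRingCat.of k)
  obtain ⟨W, ρ, pr, hWp, hWc, hWo, hWs, hlift, -⟩ :=
    Jacobian.exists_power f (𝟙_ (Over (Spec (CommRingCat.of k)))) r
  haveI := hWp; haveI := hWc; haveI := hWo; haveI := hWs
  haveI : ConnectedSpace ↥(Spec (CommRingCat.of k)) := inferInstanceAs (ConnectedSpace (PrimeSpectrum k))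
  have hW : ρ.left = W.hom := (Category.comp_id _).symm.trans (Over.w ρ)
  haveI : IsProper W.hom := hW ▸ hWp
  haveI : Smooth W.hom := hW ▸ SmoothOfRelativeDimension.smooth (n := r) ρ.left
  haveI : ConnectedSpace W.left := by
    haveI : GeometricallyConnected W.hom := hW ▸ hWc
    haveI : UniversallyOpen W.hom := hW ▸ hWo
    exact GeometricallyConnected.connectedSpace W.hom W.hom.isOpenMap
  haveI : CompactSpace W.left := QuasiCompact.compactSpace_of_compactSpace W.hom
  haveI : IsIntegral W.left := CurveCohLib.isIntegral_of_smooth_connected W.hom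
  let π : W ⟶ JacVarLib.PW k (C := C) r := Over.homMk
    (WidePullback.lift W.hom (fun i => (pr i).left) fun i => Over.w (pr i)) (WidePullback.lift_base _ _ _ _)
  let q := π.left
  have hd : closure (Set.range q.base) = Set.univ := by
    haveI : JacobsonSpace (JacVarLib.PW k (C := C) r).left :=
      LocallyOfFiniteType.jacobsonSpace (JacVarLib.PW k (C := C) r).hom
    refine Set.eq_univ_of_univ_subset ((closure_inter_closedPoints isClosed_univ).symm.trans_subset
      (closure_minimal ?_ isClosed_closure))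
    rintro c ⟨-, hc⟩
    obtain ⟨b, rfl⟩ := JacVarLib.exists_kp k hc
    obtain ⟨x, -, hx⟩ := hlift (𝟙_ _) (toUnit _) (fun i => b ≫ JacVarLib.pr k r i)
    refine subset_closure ⟨img k x, ?_⟩
    have e : x ≫ π = b := by
      refine Over.OverMorphism.ext (WidePullback.hom_ext _ _ _ (fun i => ?_) ?_)
      · refine (Category.assoc _ _ _).trans ?_
        simp only [π, Over.homMk_left, WidePullback.lift_π]
        exact congrArg CommaMorphism.left (hx i)
      · exact (Over.w (x ≫ π)).trans (Over.w b).symm
    rw [← e]; rfl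
  have hi : IsIrreducible (closure (q.base '' Set.univ)) :=
    ((IrreducibleSpace.isIrreducible_univ (X := W.left)).image q.base q.continuous.continuousOn).closure
  rw [Set.image_univ, hd] at hi
  exact { isPreirreducible_univ := hi.2, toNonempty := ⟨hi.1.choose⟩ }

variable {σ : Spec (CommRingCat.of k) ⟶ C} (hσ : σ ≫ C ↘ Spec (CommRingCat.of k) = 𝟙 _)
  {J : Over (Spec (CommRingCat.of k))} [GrpObj J] [IsCommMonObj J]
  {ψ : (ModFun.PicDeg (C ↘ Spec (CommRingCat.of k)) 0).Hom ⊤ J}
  (hJ : Jac.IsJacobian (C ↘ Spec (CommRingCat.of k)) ⊤ J ψ)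
  {j : Over.mk (C ↘ Spec (CommRingCat.of k)) ⟶ J}
  (hj : Jac.IsAbelJacobiAt (C ↘ Spec (CommRingCat.of k)) σ ψ j)

include hj in
/-- The locus where a translated class is not effective is open. -/
theorem exists_open_not_eff {Y : Over (Spec (CommRingCat.of k))} (h : Y ⟶ J) (r : ℕ) :
    ∃ U : Y.left.Opens, ∀ y : KP k Y,
      img k y ∈ U ↔ hz k (cls k hdim hJ (y ≫ h) * Os k hdim σ hσ ^ r) = 0 := by
  haveI := JacVarLib.isSeparated_J k (J := J)
  refine ⟨⟨(h.left.base ⁻¹' Set.range (sm k j r).left.base)ᶜ,
    ((JacVarLib.isClosed_range k _).preimage h.left.continuous).isOpen_compl⟩, fun y => ?_⟩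
  show ¬ img k (y ≫ h) ∈ Set.range (sm k j r).left.base ↔ _
  rw [JacVarLib.mem_range_sm k hdim σ hσ hJ hj]
  omega

include hj in
/-- A translated class effective at infinitely many points of the curve is effective at all. -/
theorem forall_of_infinite {C' : Scheme.{u}} [C'.Over (Spec (CommRingCat.of k))]
    [IsProper (C' ↘ Spec (CommRingCat.of k))] [IsIntegral C'] [Smooth (C' ↘ Spec (CommRingCat.of k))]
    [GeometricallyConnected (C' ↘ Spec (CommRingCat.of k))] (hdim' : topologicalKrullDim C' = 1)
    (h : Over.mk (C' ↘ Spec (CommRingCat.of k)) ⟶ J) (r : ℕ)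
    {S : Set (KP k (Over.mk (C' ↘ Spec (CommRingCat.of k))))} (hS : S.Infinite)
    (hmem : ∀ z ∈ S, 0 < hz k (cls k hdim hJ (z ≫ h) * Os k hdim σ hσ ^ r))
    (z : KP k (Over.mk (C' ↘ Spec (CommRingCat.of k)))) :
    0 < hz k (cls k hdim hJ (z ≫ h) * Os k hdim σ hσ ^ r) := by
  obtain ⟨U, hU⟩ := exists_open_not_eff k hdim hσ hJ hj h r
  let Z : Set C' := (U : Set (Over.mk (C' ↘ Spec (CommRingCat.of k))).left)ᶜ
  have hZc : IsClosed Z := U.isOpen.isClosed_compl
  have hu := eq_univ_of_infinite k hdim' (Z := Z) hZc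
    (hS.image (JacVarLib.pt_injective k).injOn) (fun x hx => by
      obtain ⟨w, hw, rfl⟩ := hx
      intro hwU
      have := (hU w).1 hwU
      have := hmem w hw
      omega)
  have hz' : img k z ∈ Z := hu.symm ▸ trivial
  by_contra h0
  exact hz' ((hU z).2 (by omega))

end Groth.Agent.Torelli
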